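import Cfsg.Agent.H78.Fi22Rep.Sound
import Cfsg.Agent.H78.Fi22Rep.Data

/-!
Kernel checks of relators of Fi22 on the matrices, part 0.
-/

set_option autoImplicit false
set_option Elab.async false
set_option maxRecDepth 10000

namespace Cfsg.Agent.H78.Fi22Rep

theorem cox0 : ([[0, 0], [1, 1], [2, 2], [3, 3], [4, 4], [5, 5], [6, 6], [7, 7], [8, 8]] : List (List ℕ)).all (fun w => chk mats w (idG 78)) = true := by decide +kernel

theorem cox1 : ([[0, 1, 0, 1, 0, 1], [0, 2, 0, 2], [0, 3, 0, 3], [0, 4, 0, 4], [0, 5, 0, 5]] : List (List ℕ)).all (fun w => chk mats w (idG 78)) = true := by decide +kernel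

theorem cox2 : ([[0, 6, 0, 6], [0, 7, 0, 7], [0, 8, 0, 8], [1, 2, 1, 2, 1, 2], [1, 3, 1, 3]] : List (List ℕ)).all (fun w => chk mats w (idG 78)) = true := by decide +kernel

end Cfsg.Agent.H78.Fi22Rep
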