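import Cfsg.Agent.H78.Fi22Rep.Sound
import Cfsg.Agent.H78.Fi22Rep.Data

/-!
Kernel checks of relators of Fi22 on the matrices, part 1.
-/

set_option autoImplicit false
set_option Elab.async false
set_option maxRecDepth 10000

namespace Cfsg.Agent.H78.Fi22Rep

theorem cox3 : ([[1, 4, 1, 4], [1, 5, 1, 5], [1, 6, 1, 6], [1, 7, 1, 7], [1, 8, 1, 8]] : List (List ℕ)).all (fun w => chk mats w (idG 78)) = true := by decide +kernel

theorem cox4 : ([[2, 3, 2, 3, 2, 3], [2, 4, 2, 4], [2, 5, 2, 5], [2, 6, 2, 6], [2, 7, 2, 7]] : List (List ℕ)).all (fun w => chk mats w (idG 78)) = true := by decide +kernel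

theorem cox5 : ([[2, 8, 2, 8], [3, 4, 3, 4, 3, 4], [3, 5, 3, 5], [3, 6, 3, 6]] : List (List ℕ)).all (fun w => chk mats w (idG 78)) = true := by decide +kernel

end Cfsg.Agent.H78.Fi22Rep
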