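import Cfsg.Agent.H78.Fi22Rep.Sound
import Cfsg.Agent.H78.Fi22Rep.Data

/-!
Kernel checks of relators of Fi22 on the matrices, part 2.
-/

set_option autoImplicit false
set_option Elab.async false
set_option maxRecDepth 10000

namespace Cfsg.Agent.H78.Fi22Rep

theorem cox6 : ([[3, 7, 3, 7, 3, 7], [3, 8, 3, 8], [4, 5, 4, 5, 4, 5], [4, 6, 4, 6]] : List (List ℕ)).all (fun w => chk mats w (idG 78)) = true := by decide +kernel

theorem cox7 : ([[4, 7, 4, 7], [4, 8, 4, 8], [5, 6, 5, 6, 5, 6], [5, 7, 5, 7], [5, 8, 5, 8]] : List (List ℕ)).all (fun w => chk mats w (idG 78)) = true := by decide +kernel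

theorem cox8 : ([[6, 7, 6, 7], [6, 8, 6, 8], [7, 8, 7, 8, 7, 8]] : List (List ℕ)).all (fun w => chk mats w (idG 78)) = true := by decide +kernel

end Cfsg.Agent.H78.Fi22Rep
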