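import Cfsg.Agent.H78.Fi22Rep.Sound
import Cfsg.Agent.H78.Fi22Rep.Data

/-!
Kernel checks of relators of Fi22 on the matrices, part 3.
-/

set_option autoImplicit false
set_option Elab.async false
set_option maxRecDepth 10000

namespace Cfsg.Agent.H78.Fi22Rep

theorem prod0 : chk mats [3, 2, 1, 3, 4, 5, 3, 7, 8] mat9 = true := by decide +kernel

theorem prod1 : chk mats [9, 9] mat10 = true := by decide +kernel

theorem prod2 : chk mats [10, 10] mat11 = true := by decide +kernel

theorem prod3 : chk mats [11, 9] mat12 = true := by decide +kernel

theorem prod4 : chk mats [12, 12] (idG 78) = true := by decide +kernel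

theorem prod5 : chk mats [0, 1, 2, 3, 4, 5, 7] mat13 = true := by decide +kernel

theorem prod6 : chk mats [13, 13] mat14 = true := by decide +kernel

theorem prod7 : chk mats [14, 13] mat15 = true := by decide +kernel

theorem prod8 : chk mats [15, 15, 15] (idG 78) = true := by decide +kernel

theorem prod9 : chk mats [1, 2, 3, 4, 5, 6, 7] mat16 = true := by decide +kernel

theorem prod10 : chk mats [16, 16] mat17 = true := by decide +kernel

theorem prod11 : chk mats [17, 16] mat18 = true := by decide +kernel

theorem prod12 : chk mats [18, 18, 18] (idG 78) = true := by decide +kernel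

end Cfsg.Agent.H78.Fi22Rep
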