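import Cfsg.Agent.H78.Fi22Rep.Check0
import Cfsg.Agent.H78.Fi22Rep.Check1
import Cfsg.Agent.H78.Fi22Rep.Check2
import Cfsg.Agent.H78.Fi22Rep.Check3

/-!
The kernel checks of the Coxeter relators together.
-/

set_option autoImplicit false
set_option maxRecDepth 10000

namespace Cfsg.Agent.H78.Fi22Rep

/-- the braid and commutation relators -/
def coxRest : List (List ℕ) :=
    [[0, 1, 0, 1, 0, 1], [0, 2, 0, 2], [0, 3, 0, 3], [0, 4, 0, 4], [0, 5, 0, 5]] ++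
    [[0, 6, 0, 6], [0, 7, 0, 7], [0, 8, 0, 8], [1, 2, 1, 2, 1, 2], [1, 3, 1, 3]] ++
    [[1, 4, 1, 4], [1, 5, 1, 5], [1, 6, 1, 6], [1, 7, 1, 7], [1, 8, 1, 8]] ++
    [[2, 3, 2, 3, 2, 3], [2, 4, 2, 4], [2, 5, 2, 5], [2, 6, 2, 6], [2, 7, 2, 7]] ++
    [[2, 8, 2, 8], [3, 4, 3, 4, 3, 4], [3, 5, 3, 5], [3, 6, 3, 6]] ++
    [[3, 7, 3, 7, 3, 7], [3, 8, 3, 8], [4, 5, 4, 5, 4, 5], [4, 6, 4, 6]] ++
    [[4, 7, 4, 7], [4, 8, 4, 8], [5, 6, 5, 6, 5, 6], [5, 7, 5, 7], [5, 8, 5, 8]] ++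
    [[6, 7, 6, 7], [6, 8, 6, 8], [7, 8, 7, 8, 7, 8]]

theorem cox_all : (([[0, 0], [1, 1], [2, 2], [3, 3], [4, 4], [5, 5], [6, 6], [7, 7], [8, 8]] : List (List ℕ)) ++ coxRest).all
    (fun w => chk mats w (idG 78)) = true := by
  simp only [coxRest, List.all_append, cox0, cox1, cox2, cox3, cox4, cox5, cox6, cox7, cox8, Bool.and_self]

end Cfsg.Agent.H78.Fi22Rep
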