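import Cfsg.Agent.H78.Fi22Rep.Checks
import Cfsg.Agent.H45.Fi22Top

/-!
A faithful 78-dimensional representation of the presented group Fi22 over the field with 13 elements.
-/

set_option autoImplicit false
set_option Elab.async false
set_option maxRecDepth 10000

namespace Cfsg.Agent.H78.Fi22Rep

open Cfsg.Spor Cfsg.Agent.H45

abbrev GL78 : Type := GL (Fin 78) (ZMod 13)

theorem ev_pow (w : List ℕ) (m : ℕ) :
    ev 78 mats (List.replicate m w).flatten = ev 78 mats w ^ m := by
  induction m with
  | zero => simp [ev]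
  | succ m ih =>
    simp only [ev, List.replicate_succ, List.flatten_cons, List.map_append, List.prod_append] at ih ⊢
    rw [ih, pow_succ']

theorem ev_two (a b : ℕ) : ev 78 mats [a, b] = ev 78 mats [a] * ev 78 mats [b] := by simp [ev]

theorem ev_single {l : ℕ} {t : List ℕ} (hl : mats.getD l [] = t) : ev 78 mats [l] = mat 78 t := by
  simp only [ev, List.map_cons, List.map_nil, List.prod_cons, List.prod_nil, mul_one, hl]

theorem spider : ev 78 mats (List.replicate 10 [3, 2, 1, 3, 4, 5, 3, 7, 8]).flatten = 1 := by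
  rw [ev_pow, chk_sound prod0]
  have h1 := chk_sound prod1
  have h2 := chk_sound prod2
  have h3 := chk_sound prod3
  have h4 := chk_sound prod4
  rw [ev_two, ev_single (t := mat9) rfl] at h1
  rw [ev_two, ev_single (t := mat10) rfl] at h2
  rw [ev_two, ev_single (t := mat11) rfl, ev_single (t := mat9) rfl] at h3
  rw [ev_two, ev_single (t := mat12) rfl, mat_idG] at h4
  rw [show (10 : ℕ) = 5 + 5 from rfl, pow_add, pow_succ (n := 4), show (4 : ℕ) = 2 + 2 from rfl,
    pow_add, pow_two, h1, h2, h3, h4]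

theorem seven {w t t' t'' : List ℕ} {a b c : ℕ} (h0 : chk mats w t = true)
    (h1 : chk mats [a, a] t' = true) (h2 : chk mats [b, a] t'' = true)
    (h3 : chk mats [c, c, c] (idG 78) = true) (ha : mats.getD a [] = t)
    (hb : mats.getD b [] = t') (hc : mats.getD c [] = t'') :
    ev 78 mats (List.replicate 9 w).flatten = 1 := by
  rw [ev_pow, chk_sound h0]
  have e1 := chk_sound h1
  have e2 := chk_sound h2
  have e3 := chk_sound h3
  rw [ev_two, ev_single ha] at e1
  rw [ev_two, ev_single hb, ev_single ha] at e2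
  simp only [ev, List.map_cons, List.map_nil, List.prod_cons, List.prod_nil, mul_one, hc,
    mat_idG] at e3
  have e12 : mat 78 t ^ 3 = mat 78 t'' := by rw [pow_succ (n := 2), pow_two, e1, e2]
  rw [show (9 : ℕ) = 3 * 3 from rfl, pow_mul, e12, pow_succ (n := 2), pow_two, mul_assoc, e3]

theorem Rx_ok : ∀ w ∈ Fi22Pres.pres.Rx, ev 78 mats w = 1 := by
  intro w hw
  have h : Fi22Pres.pres.Rx = [(List.replicate 10 [3, 2, 1, 3, 4, 5, 3, 7, 8]).flatten,
      (List.replicate 9 [0, 1, 2, 3, 4, 5, 7]).flatten,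
      (List.replicate 9 [1, 2, 3, 4, 5, 6, 7]).flatten] := by decide +kernel
  rw [h] at hw
  simp only [List.mem_cons, List.not_mem_nil, or_false] at hw
  rcases hw with rfl | rfl | rfl
  · exact spider
  · exact seven prod5 prod6 prod7 prod8 rfl rfl rfl
  · exact seven prod9 prod10 prod11 prod12 rfl rfl rfl

theorem Rc_ok : ∀ w ∈ Fi22Pres.pres.Rc, ev 78 mats w = 1 := by
  intro w hw
  have hsub : (Fi22Pres.pres.Rc.all fun w => List.elem w
      ([[0, 0], [1, 1], [2, 2], [3, 3], [4, 4], [5, 5], [6, 6], [7, 7], [8, 8]] ++ coxRest)) = true := by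
    decide +kernel
  have hm := List.all_eq_true.mp hsub w hw
  have := List.all_eq_true.mp cox_all w (List.elem_iff.mp hm)
  rw [chk_sound this, mat_idG]

theorem ev_sq (l : ℕ) (h : l < 9) : ev 78 mats [l] * ev 78 mats [l] = 1 := by
  rw [← ev_two]
  refine Rc_ok _ ?_
  interval_cases l <;> decide

/-- the invertible matrix of a letter -/
noncomputable def unitM (l : ℕ) : GL78 :=
  if h : l < 9 then ⟨ev 78 mats [l], ev 78 mats [l], ev_sq l h, ev_sq l h⟩ else 1

theorem evalW_unitM : ∀ w : List ℕ, (∀ l ∈ w, l < 9) →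
    ((evalW unitM w : GL78) : Matrix (Fin 78) (Fin 78) (ZMod 13)) = ev 78 mats w := by
  intro w
  induction w with
  | nil => intro _; simp [evalW, ev]
  | cons l w ih =>
    intro h
    rw [evalW_cons, Units.val_mul, ih (fun m hm => h m (List.mem_cons_of_mem _ hm))]
    simp [unitM, h l List.mem_cons_self, ev]

/-- the images of the generators -/
noncomputable def genM (x : Fi22.Gen) : GL78 := unitM (ixOf Fi22Pres.pres.gl x)

theorem eOf_genM (l : ℕ) (h : l < 9) : eOf Fi22Pres.pres.gl genM l = unitM l := by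
  interval_cases l <;> rfl

theorem words_ok : ∀ w ∈ Fi22Pres.pres.Rc ++ Fi22Pres.pres.Rx,
    evalW (eOf Fi22Pres.pres.gl genM) w = 1 := by
  intro w hw
  have hlt : ((Fi22Pres.pres.Rc ++ Fi22Pres.pres.Rx).all fun w => w.all fun l => Nat.blt l 9) = true := by
    decide +kernel
  have hl : ∀ l ∈ w, l < 9 := fun l hl =>
    Nat.blt_eq.mp (List.all_eq_true.mp (List.all_eq_true.mp hlt w hw) l hl)
  have he : evalW (eOf Fi22Pres.pres.gl genM) w = evalW unitM w :=
    congrArg List.prod (List.map_congr_left fun l h => eOf_genM l (hl l h))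
  rw [he]
  apply Units.ext
  rw [evalW_unitM w hl, Units.val_one]
  rcases List.mem_append.mp hw with h | h
  · exact Rc_ok w h
  · exact Rx_ok w h

theorem rels_ok : ∀ r ∈ coxRelators Fi22.edges ∪ {r | r ∈ Fi22.extra},
    FreeGroup.lift genM r = 1 := by
  have hP := Fi22Pres.ok
  have hcox : CoxHolds Fi22Pres.pres.edges genM :=
    coxHolds_of_words hP.all hP.check fun w hw => words_ok w (List.mem_append_left _ hw)
  rintro r (⟨x, hx, y, hy, rfl⟩ | hr)
  · rw [map_pow, map_mul, FreeGroup.lift_apply_of, FreeGroup.lift_apply_of]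
    exact hcox x hx y hy
  · have h1 := hP.extra_eval GL78 genM
      (fun x => (eq_inv_of_mul_eq_one_left (sq_of_coxHolds hcox hP.nodes x)).symm)
    have h2 : FreeGroup.lift genM r ∈ Fi22Pres.pres.extra.map (FreeGroup.lift genM) :=
      List.mem_map.mpr ⟨r, hr, rfl⟩
    rw [h1, List.mem_map] at h2
    obtain ⟨w, hw, hwr⟩ := h2
    rw [← hwr]
    exact words_ok w (List.mem_append_right _ hw)

/-- the representation -/
noncomputable def rho : Fi22 →* GL78 := PresentedGroup.toGroup rels_ok

theorem genM_a_ne : genM .a ≠ 1 := by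
  intro h
  have h' : ev 78 mats [0] = 1 := by
    have := congrArg (fun u : GL78 => (u : Matrix (Fin 78) (Fin 78) (ZMod 13))) h
    have he : genM .a = ⟨ev 78 mats [0], ev 78 mats [0], ev_sq 0 (by norm_num), ev_sq 0 (by norm_num)⟩ := rfl
    rw [he] at this
    exact this
  rw [ev_single (t := mat0) rfl, ← mat_idG] at h'
  have hne : ((List.range 78).all fun j => Nat.beq (dg (mat0.getD 0 0) j % 13)
      (dg ((idG 78).getD 0 0) j % 13)) = false := by decide +kernel
  rw [List.all_eq_false] at hne
  obtain ⟨j, hj, hjne⟩ := hne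
  have h0 := congrFun (congrFun h' ⟨0, by norm_num⟩) ⟨j, List.mem_range.mp hj⟩
  simp only [mat, Matrix.of_apply] at h0
  rw [ZMod.natCast_eq_natCast_iff'] at h0
  exact hjne (Nat.beq_eq.mpr h0)

theorem rho_injective : Function.Injective rho := by
  haveI : IsSimpleGroup Fi22 := Fi22Top.isSimple
  rcases (inferInstance : (rho.ker).Normal).eq_bot_or_eq_top with h | h
  · exact (MonoidHom.ker_eq_bot_iff rho).mp h
  · exfalso
    apply genM_a_ne
    have : (PresentedGroup.of Fi22.Gen.a : Fi22) ∈ rho.ker := by rw [h]; exact Subgroup.mem_top _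
    rw [MonoidHom.mem_ker] at this
    rwa [rho, PresentedGroup.toGroup.of] at this

end Cfsg.Agent.H78.Fi22Rep
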