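import Cfsg.Agent.H45.CosetCheck
import Mathlib

/-!
Matrices over the field with 13 elements with rows packed in natural numbers: 32 bits per entry,
left multiplication by a matrix given with four bits per entry, and reduction of all entries at once.
-/

set_option autoImplicit false

namespace Cfsg.Agent.H78.Fi22Rep

open Cfsg.Agent.H45 (force force_eq)

/-- pack the first `n` values of `f` with 32 bits each -/
def pk : ℕ → (ℕ → ℕ) → ℕ
  | 0, _ => 0
  | n + 1, f => f 0 + 2 ^ 32 * pk n (fun j => f (j + 1))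

theorem pk_congr : ∀ {n : ℕ} {f g : ℕ → ℕ}, (∀ j, j < n → f j = g j) → pk n f = pk n g := by
  intro n
  induction n with
  | zero => intros; rfl
  | succ n ih =>
    intro f g h
    simp only [pk]
    rw [h 0 (Nat.succ_pos n), ih (fun j hj => h (j + 1) (by omega))]

theorem pk_add : ∀ (n : ℕ) (c : ℕ) (f g : ℕ → ℕ),
    c * pk n f + pk n g = pk n (fun j => c * f j + g j) := by
  intro n
  induction n with
  | zero => intros; simp [pk]
  | succ n ih =>
    intro c f g
    simp only [pk]
    rw [← ih c (fun j => f (j + 1)) (fun j => g (j + 1))]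
    ring

theorem pk_inj : ∀ {n : ℕ} {f g : ℕ → ℕ}, (∀ j, f j < 2 ^ 32) → (∀ j, g j < 2 ^ 32) →
    pk n f = pk n g → ∀ j, j < n → f j = g j := by
  intro n
  induction n with
  | zero => intros; omega
  | succ n ih =>
    intro f g hf hg h j hj
    simp only [pk] at h
    have h0 := congrArg (· % 2 ^ 32) h
    simp only [Nat.add_mul_mod_self_left, Nat.mod_eq_of_lt (hf 0), Nat.mod_eq_of_lt (hg 0)] at h0
    cases j with
    | zero => exact h0
    | succ j =>
      refine ih (fun j => hf (j + 1)) (fun j => hg (j + 1)) ?_ j (by omega)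
      exact Nat.eq_of_mul_eq_mul_left (Nat.two_pow_pos 32) (by omega)

/-- fourteen one bits in each slot -/
def maskN : ℕ → ℕ
  | 0 => 0
  | n + 1 => (2 ^ 14 - 1) + 2 ^ 32 * maskN n

theorem and_split (k a b : ℕ) :
    a &&& b = (a % 2 ^ k &&& b % 2 ^ k) + 2 ^ k * (a / 2 ^ k &&& b / 2 ^ k) := by
  rw [← Nat.and_mod_two_pow, ← Nat.and_div_two_pow, Nat.mod_add_div]

theorem quot_slot : ∀ (n : ℕ) (f : ℕ → ℕ), (∀ j, f j < 2 ^ 14) →
    ((pk n f * 20165) / 2 ^ 18) &&& maskN n = pk n (fun j => f j / 13) := by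
  intro n
  induction n with
  | zero => intros; simp [pk, maskN]
  | succ n ih =>
    intro f hf
    have h0 := hf 0
    set R := pk n (fun j => f (j + 1)) with hR
    have hy : f 0 * 20165 / 2 ^ 18 = f 0 / 13 := by omega
    have hdiv : pk (n + 1) f * 20165 / 2 ^ 18 = f 0 / 13 + 2 ^ 14 * (R * 20165) := by
      simp only [pk, ← hR]
      rw [show (f 0 + 2 ^ 32 * R) * 20165 = f 0 * 20165 + 2 ^ 18 * (2 ^ 14 * (R * 20165)) by ring,
        Nat.add_mul_div_left _ _ (Nat.two_pow_pos 18), hy]
    rw [hdiv, and_split 14, maskN]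
    have e1 : (f 0 / 13 + 2 ^ 14 * (R * 20165)) % 2 ^ 14 = f 0 / 13 := by omega
    have e2 : ((2 ^ 14 - 1) + 2 ^ 32 * maskN n) % 2 ^ 14 = 2 ^ 14 - 1 := by omega
    have e3 : (f 0 / 13 + 2 ^ 14 * (R * 20165)) / 2 ^ 14 = R * 20165 := by omega
    have e4 : ((2 ^ 14 - 1) + 2 ^ 32 * maskN n) / 2 ^ 14 = 2 ^ 18 * maskN n := by omega
    rw [e1, e2, e3, e4, Nat.and_two_pow_sub_one_eq_mod, Nat.mod_eq_of_lt (by omega : f 0 / 13 < 2 ^ 14),
      and_split 18 (R * 20165)]
    simp only [Nat.mul_mod_right, Nat.and_zero, zero_add, Nat.mul_div_cancel_left _ (Nat.two_pow_pos 18)]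
    rw [hR, ih _ (fun j => hf (j + 1))]
    simp only [pk]
    ring

/-- the mask used for 78 slots -/
def M78 : ℕ := maskN 78

/-- reduce every slot modulo 13 -/
def red (M X : ℕ) : ℕ := X - 13 * (((X * 20165) >>> 18) &&& M)

theorem red_pk (n : ℕ) (f : ℕ → ℕ) (hf : ∀ j, f j < 2 ^ 14) :
    red (maskN n) (pk n f) = pk n (fun j => f j % 13) := by
  unfold red
  rw [Nat.shiftRight_eq_div_pow, quot_slot n f hf]
  have h := pk_add n 13 (fun j => f j / 13) (fun j => f j % 13)
  have h2 : pk n (fun j => 13 * (f j / 13) + f j % 13) = pk n f :=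
    pk_congr (fun j _ => Nat.div_add_mod (f j) 13)
  rw [h2] at h
  omega

/-- combination of packed rows with coefficients packed four bits each -/
noncomputable def lc (d : ℕ) (ps : List ℕ) : ℕ :=
  List.rec (motive := fun _ => ℕ → ℕ) (fun _ => 0)
    (fun p _ ih e => (e &&& 15) * p + ih (e >>> 4)) ps d

theorem lc_nil (d : ℕ) : lc d [] = 0 := rfl

theorem lc_cons (d p : ℕ) (ps : List ℕ) : lc d (p :: ps) = (d &&& 15) * p + lc (d >>> 4) ps := rfl

/-- digit `k` of a row of a generator -/
def dg (d k : ℕ) : ℕ := d >>> (4 * k) &&& 15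

theorem pk_zero : ∀ n : ℕ, pk n (fun _ => 0) = 0 := by
  intro n
  induction n with
  | zero => rfl
  | succ n ih => simp [pk, ih]

theorem lc_ofFn : ∀ {m : ℕ} (d n : ℕ) (f : Fin m → ℕ → ℕ),
    lc d (List.ofFn fun k : Fin m => pk n (f k)) =
      pk n (fun j => ∑ k : Fin m, dg d (k : ℕ) * f k j) := by
  intro m
  induction m with
  | zero =>
    intro d n f
    simp [lc_nil, pk_zero]
  | succ m ih =>
    intro d n f
    rw [List.ofFn_succ, lc_cons, ih (d >>> 4) n (fun k => f k.succ), pk_add]
    refine pk_congr fun j _ => ?_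
    rw [Fin.sum_univ_succ]
    simp only [dg, Fin.val_zero, mul_zero, Nat.shiftRight_zero, Fin.val_succ]
    congr 1
    refine Finset.sum_congr rfl fun k _ => ?_
    rw [← Nat.shiftRight_add]
    congr 3
    ring

/-- left multiplication by a generator, continuation passing -/
noncomputable def stepL (M : ℕ) : List ℕ → List ℕ → (List ℕ → Bool) → Bool
  | [], _, k => k []
  | d :: ds, P, k => force (red M (lc d P)) fun x => stepL M ds P fun xs => k (x :: xs)

theorem stepL_eq (M : ℕ) : ∀ (ds P : List ℕ) (k : List ℕ → Bool),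
    stepL M ds P k = k (ds.map fun d => red M (lc d P)) := by
  intro ds
  induction ds with
  | nil => intros; rfl
  | cons d ds ih => intro P k; simp only [stepL, force_eq, ih, List.map_cons]

/-- compare two lists -/
def beqL : List ℕ → List ℕ → Bool
  | [], [] => true
  | a :: as, b :: bs => Nat.beq a b && beqL as bs
  | _, _ => false

theorem beqL_eq : ∀ {a b : List ℕ}, beqL a b = true → a = b := by
  intro a
  induction a with
  | nil => intro b; cases b <;> simp [beqL]
  | cons x a ih =>
    intro b; cases b with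
    | nil => simp [beqL]
    | cons y b =>
      simp only [beqL, Bool.and_eq_true, Nat.beq_eq, List.cons.injEq]
      exact fun h => ⟨h.1, ih h.2⟩

/-- evaluate a word of matrices on the left of `P`, compare with `T` -/
noncomputable def runW (M : ℕ) (G : List (List ℕ)) (T : List ℕ) : List ℕ → List ℕ → Bool
  | [], P => beqL P T
  | l :: w, P => stepL M (G.getD l []) P fun P' => runW M G T w P'

end Cfsg.Agent.H78.Fi22Rep
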