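import Cfsg.Agent.H78.Fi22Rep.Packed

/-!
Meaning of the packed kernel checks as identities of matrices over the field with 13 elements.
-/

set_option autoImplicit false

namespace Cfsg.Agent.H78.Fi22Rep

variable {N : ℕ}

/-- the matrix with the given packed rows -/
def mat (N : ℕ) (g : List ℕ) : Matrix (Fin N) (Fin N) (ZMod 13) :=
  Matrix.of fun i j => (dg (g.getD (i : ℕ) 0) (j : ℕ) : ZMod 13)

/-- rows of the identity matrix, four bits per entry -/
def idG (N : ℕ) : List ℕ := (List.range N).map fun i => 1 <<< (4 * i)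

theorem mat_idG : mat N (idG N) = 1 := by
  ext i j
  have hg : (idG N).getD (i : ℕ) 0 = 1 <<< (4 * (i : ℕ)) := by
    simp [idG, List.getD_eq_getElem?_getD, List.getElem?_map, List.getElem?_range, i.isLt]
  simp only [mat, Matrix.of_apply, hg, dg, Nat.shiftLeft_eq, one_mul, Nat.shiftRight_eq_div_pow,
    Matrix.one_apply]
  have h15 : (15 : ℕ) = 2 ^ 4 - 1 := by norm_num
  rw [h15, Nat.and_two_pow_sub_one_eq_mod]
  rcases lt_trichotomy (i : ℕ) (j : ℕ) with h | h | h
  · rw [Nat.div_eq_of_lt (Nat.pow_lt_pow_right (by norm_num) (by omega)),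
      if_neg (fun e => by rw [e] at h; omega)]
    simp
  · rw [h, Nat.div_self (Nat.two_pow_pos _), if_pos (Fin.ext h)]
    simp
  · rw [Nat.pow_div (by omega) (by norm_num), if_neg (fun e => by rw [e] at h; omega),
      show 4 * (i : ℕ) - 4 * (j : ℕ) = 4 * ((i : ℕ) - (j : ℕ)) by omega]
    have : 2 ^ (4 * ((i : ℕ) - (j : ℕ))) % 2 ^ 4 = 0 :=
      Nat.mod_eq_zero_of_dvd (Nat.pow_dvd_pow 2 (by omega))
    rw [Nat.mod_eq_zero_of_dvd (by simpa using Nat.dvd_of_mod_eq_zero this)]
    simp

/-- spread four-bit entries into 32-bit slots, reduced modulo 13 -/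
def spr : ℕ → ℕ → ℕ
  | 0, _ => 0
  | n + 1, d => (d &&& 15) % 13 + 2 ^ 32 * spr n (d >>> 4)

theorem spr_eq : ∀ n d : ℕ, spr n d = pk n (fun j => dg d j % 13) := by
  intro n
  induction n with
  | zero => intros; rfl
  | succ n ih =>
    intro d
    simp only [spr, pk, ih, dg, mul_zero, Nat.shiftRight_zero]
    congr 2
    refine pk_congr fun j _ => ?_
    rw [← Nat.shiftRight_add, show 4 * (j + 1) = 4 + 4 * j by ring]

/-- packed rows of a matrix -/
def toP (N : ℕ) (g : List ℕ) : List ℕ := (List.range N).map fun i => spr N (g.getD i 0)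

/-- `P` is the packed form of `A` -/
def Rep (P : List ℕ) (A : Matrix (Fin N) (Fin N) (ZMod 13)) : Prop :=
  ∃ f : Fin N → ℕ → ℕ, (∀ i j, f i j < 13) ∧ P = List.ofFn (fun i => pk N (f i)) ∧
    ∀ i j, A i j = (f i (j : ℕ) : ZMod 13)

theorem rep_toP (g : List ℕ) : Rep (toP N g) (mat N g) := by
  refine ⟨fun i j => dg (g.getD (i : ℕ) 0) j % 13, fun i j => Nat.mod_lt _ (by norm_num), ?_, ?_⟩
  · refine List.ext_getElem (by simp [toP]) fun n h1 h2 => ?_
    simp [toP, spr_eq]
  · intro i j
    simp [mat, ZMod.natCast_mod]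

theorem rep_unique {P : List ℕ} {A B : Matrix (Fin N) (Fin N) (ZMod 13)} (hA : Rep P A)
    (hB : Rep P B) : A = B := by
  obtain ⟨f, hf, hP, hAf⟩ := hA
  obtain ⟨g, hg, hP', hBg⟩ := hB
  ext i j
  have hi : pk N (f i) = pk N (g i) := congrFun (List.ofFn_injective (hP.symm.trans hP')) i
  rw [hAf, hBg, pk_inj (fun j => (hf i j).trans (by norm_num)) (fun j => (hg i j).trans (by norm_num))
    hi (j : ℕ) j.isLt]

theorem dg_lt (d k : ℕ) : dg d k ≤ 15 := Nat.and_le_right

theorem rep_step (hN : N ≤ 78) {P : List ℕ} {A : Matrix (Fin N) (Fin N) (ZMod 13)} (hA : Rep P A)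
    {g : List ℕ} (hg : g.length = N) :
    Rep (g.map fun d => red (maskN N) (lc d P)) (mat N g * A) := by
  obtain ⟨f, hf, hP, hAf⟩ := hA
  subst hP
  refine ⟨fun i j => (∑ k : Fin N, dg (g.getD (i : ℕ) 0) (k : ℕ) * f k j) % 13,
    fun i j => Nat.mod_lt _ (by norm_num), ?_, ?_⟩
  · refine List.ext_getElem (by simp [hg]) fun n h1 h2 => ?_
    have hn : n < g.length := by simpa using h1
    simp only [List.getElem_map, List.getElem_ofFn, List.getD_eq_getElem _ _ hn]
    rw [lc_ofFn, red_pk]
    intro j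
    have : ∑ k : Fin N, dg g[n] (k : ℕ) * f k j ≤ ∑ _k : Fin N, 15 * 12 :=
      Finset.sum_le_sum fun k _ => Nat.mul_le_mul (dg_lt _ _) (Nat.le_of_lt_succ (hf k j))
    simp only [Finset.sum_const, Finset.card_univ, Fintype.card_fin, smul_eq_mul] at this
    have := Nat.mul_le_mul_right (15 * 12) hN
    omega
  · intro i j
    simp [mat, Matrix.mul_apply, hAf, ZMod.natCast_mod]

/-- the product of the matrices named by a word -/
def ev (N : ℕ) (G : List (List ℕ)) (w : List ℕ) : Matrix (Fin N) (Fin N) (ZMod 13) :=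
  (w.map fun l => mat N (G.getD l [])).prod

theorem runW_sound (hN : N ≤ 78) {G : List (List ℕ)} {T : List ℕ} :
    ∀ {w : List ℕ} {P : List ℕ} {A B : Matrix (Fin N) (Fin N) (ZMod 13)},
      (∀ l ∈ w, (G.getD l []).length = N) → Rep P A → Rep T B →
      runW (maskN N) G T w P = true → ev N G w.reverse * A = B := by
  intro w
  induction w with
  | nil =>
    intro P A B _ hA hB h
    simp only [runW] at h
    rw [beqL_eq h] at hA
    simpa [ev] using rep_unique hA hB
  | cons l w ih =>
    intro P A B hl hA hB h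
    simp only [runW, stepL_eq] at h
    have := ih (fun m hm => hl m (List.mem_cons_of_mem _ hm))
      (rep_step hN hA (hl l List.mem_cons_self)) hB h
    rw [← this]
    simp [ev, mul_assoc]

/-- the product named by `w` equals the matrix with rows `t` -/
noncomputable def chk (G : List (List ℕ)) (w t : List ℕ) : Bool :=
  (w.all fun l => Nat.beq (G.getD l []).length 78) &&
    Cfsg.Agent.H45.force (maskN 78) fun M => runW M G (toP 78 t) w.reverse (toP 78 (idG 78))

theorem chk_sound {G : List (List ℕ)} {w t : List ℕ} (h : chk G w t = true) :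
    ev 78 G w = mat 78 t := by
  simp only [chk, Cfsg.Agent.H45.force_eq, Bool.and_eq_true, List.all_eq_true, Nat.beq_eq] at h
  have := runW_sound (N := 78) le_rfl (fun l hl => h.1 l (List.mem_reverse.mp hl))
    (rep_toP (idG 78)) (rep_toP t) h.2
  rwa [List.reverse_reverse, mat_idG, mul_one] at this

end Cfsg.Agent.H78.Fi22Rep
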